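import Mathlib.LinearAlgebra.Matrix.Charpoly.Eigs
import Mathlib.RingTheory.Polynomial.IsIntegral
import Mathlib.FieldTheory.IsAlgClosed.Spectrum
import Mathlib.FieldTheory.IsAlgClosed.AlgebraicClosure
import Mathlib.RingTheory.Discriminant
import Mathlib.RingTheory.MatrixPolynomialAlgebra
import Mathlib.RingTheory.Localization.FractionRing
import Mathlib.LinearAlgebra.Matrix.Charpoly.Coeff

/-!
# Characteristic polynomials of integral matrices, and traces as sums over points

* `isIntegral_charpoly_coeff`: the coefficients of the characteristic polynomial of an integral matrix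
  over a field are integral.
* `trace_eq_sum`: if `B` is the integral closure of a normal domain `A` in a finite extension `L` of its
  fraction field of degree `n` and `ψ_1, …, ψ_n : B → Ω` are distinct homomorphisms to a field with the
  same restriction `φ` to `A`, then `φ (Tr b) = ∑ ψ_j b`.
-/

set_option autoImplicit false

open Polynomial Matrix

namespace K71.CharInt

theorem isIntegral_of_root {R E ι : Type*} [CommRing R] [Field E] [Algebra R E] [Fintype ι]
    [DecidableEq ι] (M : Matrix ι ι E) (hM : IsIntegral R M) (μ : E) (hμ : M.charpoly.IsRoot μ) :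
    IsIntegral R μ := by
  obtain ⟨p, hp, hpM⟩ := hM
  refine ⟨p, hp, ?_⟩
  have h1 : μ ∈ spectrum E M := mem_spectrum_of_isRoot_charpoly hμ
  have h2 := spectrum.subset_polynomial_aeval M (p.map (algebraMap R E)) ⟨μ, h1, rfl⟩
  have h3 : aeval M (p.map (algebraMap R E)) = 0 := by
    rw [aeval_map_algebraMap]; exact hpM
  rcases isEmpty_or_nonempty ι with he | hne
  · exfalso
    have : M.charpoly = 1 := by simp [Matrix.charpoly]
    rw [this] at hμ
    simp at hμ
  · rw [h3, spectrum.zero_eq] at h2
    simpa [eval_map] using h2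

theorem isIntegral_charpoly_coeff {R F ι : Type*} [CommRing R] [Field F] [Algebra R F] [Fintype ι]
    [DecidableEq ι] (M : Matrix ι ι F) (hM : IsIntegral R M) (k : ℕ) :
    IsIntegral R (M.charpoly.coeff k) := by
  let E := AlgebraicClosure F
  have hM' : IsIntegral R (M.map (algebraMap F E)) :=
    hM.map ((Algebra.ofId F E).restrictScalars R).mapMatrix
  have key : IsIntegral R ((M.map (algebraMap F E)).charpoly.coeff k) := by
    refine Polynomial.isIntegral_coeff_of_factors _ ?_ (IsAlgClosed.splits _)
      (fun μ hμ => isIntegral_of_root _ hM' μ hμ) k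
    rw [(Matrix.charpoly_monic _).leadingCoeff]
    exact isIntegral_one
  rw [Matrix.charpoly_map, coeff_map] at key
  exact (isIntegral_algebraMap_iff (algebraMap F E).injective).1 key

/-- The coefficients of the characteristic polynomial of an integral matrix over a domain are
integral. -/
theorem isIntegral_charpoly_coeff' {R D ι : Type*} [CommRing R] [CommRing D] [IsDomain D] [Algebra R D]
    [Fintype ι] [DecidableEq ι] (M : Matrix ι ι D) (hM : IsIntegral R M) (k : ℕ) :
    IsIntegral R (M.charpoly.coeff k) := by
  let F := FractionRing D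
  have hM' : IsIntegral R (M.map (algebraMap D F)) :=
    hM.map ((Algebra.ofId D F).restrictScalars R).mapMatrix
  have key := isIntegral_charpoly_coeff _ hM' k
  rw [Matrix.charpoly_map, coeff_map] at key
  exact (isIntegral_algebraMap_iff (IsFractionRing.injective D F)).1 key

section

attribute [local instance] Polynomial.algebra

variable {K L : Type*} [Field K] [Field L] [Algebra K L] {ι : Type*} [Fintype ι] [DecidableEq ι]

/-- The action of `L[X]` on `K[X]^ι` for a basis `e` of `L` over `K`. -/
noncomputable def mat (e : Module.Basis ι K L) : L[X] →+* Matrix ι ι K[X] :=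
  (matPolyEquiv.symm : (Matrix ι ι K)[X] ≃ₐ[K] Matrix ι ι K[X]).toRingEquiv.toRingHom.comp
    (mapRingHom (Algebra.leftMulMatrix e : L →+* Matrix ι ι K))

theorem mat_coeff (e : Module.Basis ι K L) (f : L[X]) (i j : ι) (k : ℕ) :
    (mat e f i j).coeff k = Algebra.leftMulMatrix e (f.coeff k) i j := by
  change coeff (matPolyEquiv.symm (f.map (Algebra.leftMulMatrix e : L →+* Matrix ι ι K)) i j) k = _
  rw [matPolyEquiv_symm_apply_coeff, coeff_map]
  rfl

theorem mat_injective (e : Module.Basis ι K L) : Function.Injective (mat e) := by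
  refine (matPolyEquiv.symm : (Matrix ι ι K)[X] ≃ₐ[K] Matrix ι ι K[X]).injective.comp ?_
  exact map_injective _ (Algebra.leftMulMatrix_injective e)

theorem mat_algebraMap (e : Module.Basis ι K L) (p : K[X]) :
    mat e (p.map (algebraMap K L)) = algebraMap K[X] (Matrix ι ι K[X]) p := by
  ext i j k
  rw [mat_coeff, coeff_map, AlgHom.commutes, Matrix.algebraMap_matrix_apply,
    Matrix.algebraMap_matrix_apply]
  split_ifs <;> simp

/-- Cayley-Hamilton for elements of `L[X]` over `K[X]`. -/
theorem eval₂_charpoly (e : Module.Basis ι K L) (β : L[X]) :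
    eval₂ (mapRingHom (algebraMap K L)) β (mat e β).charpoly = 0 := by
  apply mat_injective e
  rw [hom_eval₂, map_zero]
  have h : (mat e).comp (mapRingHom (algebraMap K L)) = algebraMap K[X] (Matrix ι ι K[X]) :=
    RingHom.ext fun p => mat_algebraMap e p
  rw [h]
  exact Matrix.aeval_self_charpoly _

theorem trace_mat_coeff (e : Module.Basis ι K L) (β : L[X]) (k : ℕ) :
    (mat e β).trace.coeff k = Algebra.trace K L (β.coeff k) := by
  rw [Algebra.trace_eq_matrix_trace e, Matrix.trace, Matrix.trace, finsetSum_coeff]
  exact Finset.sum_congr rfl fun i _ => mat_coeff e β i i k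

variable {A : Type*} [CommRing A] [IsDomain A] [IsIntegrallyClosed A] [Algebra A K]
  [IsFractionRing A K] {B : Type*} [CommRing B] [Algebra A B] [Algebra.IsIntegral A B]
  (i : B →+* L) (hi : Function.Injective i)
  (hiA : i.comp (algebraMap A B) = (algebraMap K L).comp (algebraMap A K))

include hiA in
omit [IsDomain A] [IsIntegrallyClosed A] [IsFractionRing A K] in
theorem isIntegral_mat (e : Module.Basis ι K L) (β : B[X]) : IsIntegral A[X] (mat e (β.map i)) := by
  have h1 : IsIntegral A[X] β := by
    rw [Polynomial.isIntegral_iff_isIntegral_coeff]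
    exact fun n => Algebra.IsIntegral.isIntegral _
  refine h1.map_of_comp_eq (RingHom.id A[X]) ((mat e).comp (mapRingHom i)) ?_
  refine RingHom.ext fun p => ?_
  change algebraMap K[X] (Matrix ι ι K[X]) (p.map (algebraMap A K)) =
    mat e ((p.map (algebraMap A B)).map i)
  rw [← mat_algebraMap e, Polynomial.map_map, Polynomial.map_map, hiA]

variable [FiniteDimensional K L]

include hi hiA in
/-- The characteristic polynomial of an element of `B[X]`, as a polynomial over `A[X]`. -/
theorem exists_char (β : B[X]) : ∃ χ : A[X][X], χ.Monic ∧ χ.natDegree = Module.finrank K L ∧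
    eval₂ (mapRingHom (algebraMap A B)) β χ = 0 ∧
    ∀ t : A, algebraMap A K t = Algebra.trace K L (i (β.coeff 0)) → (-χ.nextCoeff).coeff 0 = t := by
  classical
  let e := Module.finBasis K L
  let N := mat e (β.map i)
  have hN : IsIntegral A[X] N := isIntegral_mat i hiA e β
  have hl : N.charpoly ∈ lifts (mapRingHom (algebraMap A K)) := by
    rw [lifts_iff_coeff_lifts]
    intro k
    have h1 := isIntegral_charpoly_coeff' N hN k
    have h2 : N.charpoly.coeff k ∈ lifts (algebraMap A K) := by
      rw [lifts_iff_coeff_lifts]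
      intro l
      obtain ⟨a, ha⟩ := IsIntegrallyClosed.algebraMap_eq_of_integral
        ((Polynomial.isIntegral_iff_isIntegral_coeff (R := A) (S := K)).1 h1 l)
      exact ⟨a, ha⟩
    obtain ⟨q, hq⟩ := (mem_lifts _).1 h2
    exact ⟨q, hq⟩
  obtain ⟨χ, hχ, hdeg, hmon⟩ := lifts_and_natDegree_eq_and_monic hl (Matrix.charpoly_monic _)
  refine ⟨χ, hmon, ?_, ?_, ?_⟩
  · rw [hdeg, Matrix.charpoly_natDegree_eq_dim, Fintype.card_fin]
  · apply map_injective i hi
    change mapRingHom i _ = _
    rw [hom_eval₂, Polynomial.map_zero]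
    have h : (mapRingHom i).comp (mapRingHom (algebraMap A B)) =
        (mapRingHom (algebraMap K L)).comp (mapRingHom (algebraMap A K)) := by
      rw [mapRingHom_comp, mapRingHom_comp, hiA]
    rw [h, ← eval₂_map, hχ]
    exact eval₂_charpoly e _
  · intro t ht
    apply IsFractionRing.injective A K
    rw [ht]
    have h1 : N.trace.coeff 0 = Algebra.trace K L (i (β.coeff 0)) := by
      rw [trace_mat_coeff, coeff_map]
    rw [← h1, Matrix.trace_eq_neg_charpoly_nextCoeff, ← hχ,
      nextCoeff_map_of_leadingCoeff_ne_zero _ (by rw [hmon.leadingCoeff, map_one]; exact one_ne_zero),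
      coeff_neg, coeff_neg, map_neg]
    congr 1
    exact (coeff_map (algebraMap A K) 0).symm

variable {Ω : Type*} [Field Ω] (φ : A →+* Ω)

omit [IsDomain A] [IsIntegrallyClosed A] [IsFractionRing A K] [Algebra.IsIntegral A B] in
/-- An element of `B[X]` with pairwise distinct images under finitely many distinct homomorphisms. -/
theorem exists_sep {n : ℕ} (ψ : Fin n → (B →+* Ω)) (hψ : Function.Injective ψ) :
    ∃ g : B[X], Function.Injective (fun j => g.map (ψ j)) := by
  classical
  have h (p : Fin n × Fin n) : ∃ b : B, p.1 ≠ p.2 → ψ p.1 b ≠ ψ p.2 b := by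
    by_cases hp : p.1 = p.2
    · exact ⟨0, fun h => (h hp).elim⟩
    · by_contra! hc
      exact hp (hψ (RingHom.ext fun b => (hc b).2))
  choose c hc using h
  let ε := Fintype.equivFin (Fin n × Fin n)
  refine ⟨∑ k, monomial (ε k : ℕ) (c k), fun j j' hj => ?_⟩
  by_contra hne
  apply hc (j, j') hne
  have h1 := congr(($hj).coeff (ε (j, j') : ℕ))
  have h2 : ∀ l : Fin n, ((∑ k, monomial (ε k : ℕ) (c k)).map (ψ l)).coeff (ε (j, j') : ℕ) =
      ψ l (c (j, j')) := by
    intro l
    rw [coeff_map, finsetSum_coeff, Finset.sum_eq_single (j, j')]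
    · rw [coeff_monomial, if_pos rfl]
    · intro b _ hb
      rw [coeff_monomial, if_neg]
      intro h
      exact hb (ε.injective (Fin.ext h))
    · intro h
      exact (h (Finset.mem_univ _)).elim
  simp only [h2] at h1
  exact h1

/-- Distinct roots of a monic polynomial of degree `n` determine its next coefficient. -/
theorem nextCoeff_eq {D : Type*} [CommRing D] [IsDomain D] {n : ℕ} (P : D[X]) (hP : P.Monic)
    (hn : P.natDegree = n) (a : Fin n → D) (ha : Function.Injective a) (hr : ∀ j, P.IsRoot (a j)) :
    -P.nextCoeff = ∑ j, a j := by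
  classical
  have h0 : P ≠ 0 := hP.ne_zero
  have h1 : Multiset.map a Finset.univ.val ≤ P.roots := by
    rw [Multiset.le_iff_subset (Multiset.Nodup.map ha Finset.univ.nodup)]
    intro x hx
    obtain ⟨j, _, rfl⟩ := Multiset.mem_map.1 hx
    exact (mem_roots h0).2 (hr j)
  have h2 : Multiset.map a Finset.univ.val = P.roots := by
    refine Multiset.eq_of_le_of_card_le h1 ?_
    rw [Multiset.card_map]
    refine (card_roots' P).trans ?_
    rw [hn]
    simp
  have h3 : P.Splits := by
    rw [splits_iff_card_roots, ← h2, Multiset.card_map, hn]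
    simp
  rw [h3.nextCoeff_eq_neg_sum_roots_of_monic hP, ← h2, neg_neg]
  rfl

include hi hiA in
/-- Traces are sums over points. -/
theorem trace_eq_sum (ψ : Fin (Module.finrank K L) → (B →+* Ω)) (hψ : Function.Injective ψ)
    (hφ : ∀ j, (ψ j).comp (algebraMap A B) = φ) (b : B) (t : A)
    (ht : algebraMap A K t = Algebra.trace K L (i b)) : φ t = ∑ j, ψ j b := by
  obtain ⟨g, hg⟩ := exists_sep ψ hψ
  let β : B[X] := C b + X * g
  have hβ0 : β.coeff 0 = b := by simp [β]
  obtain ⟨χ, hmon, hdeg, hev, htr⟩ := exists_char i hi hiA β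
  have htr' := htr t (by rw [hβ0]; exact ht)
  let P : Ω[X][X] := χ.map (mapRingHom φ)
  have hP : P.Monic := hmon.map _
  have hPn : P.natDegree = Module.finrank K L := by rw [hmon.natDegree_map, hdeg]
  have hinj : Function.Injective (fun j => β.map (ψ j)) := by
    intro j j' hj
    apply hg
    change (C b + X * g).map (ψ j) = (C b + X * g).map (ψ j') at hj
    simp only [Polynomial.map_add, Polynomial.map_mul, map_C, map_X] at hj
    have h0 := congr(($hj).coeff 0)
    simp only [coeff_add, coeff_C_zero, mul_coeff_zero, coeff_X_zero, zero_mul, add_zero] at h0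
    rw [h0] at hj
    exact mul_left_cancel₀ X_ne_zero (add_left_cancel hj)
  have hroot : ∀ j, P.IsRoot (β.map (ψ j)) := by
    intro j
    have h1 := congr(mapRingHom (ψ j) $hev)
    rw [hom_eval₂, map_zero, mapRingHom_comp, hφ] at h1
    rw [IsRoot, eval_map]
    exact h1
  have h := nextCoeff_eq P hP hPn _ hinj hroot
  rw [nextCoeff_map_of_leadingCoeff_ne_zero _ (by rw [hmon.leadingCoeff, map_one]; exact one_ne_zero),
    ← map_neg] at h
  have h' := congr(($h).coeff 0)
  rw [finsetSum_coeff] at h'
  simp only [coeff_map, hβ0] at h'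
  rw [← h', ← htr']
  exact (coeff_map φ 0).symm

omit [IsDomain A] [IsIntegrallyClosed A] [IsFractionRing A K] [Algebra.IsIntegral A B]
  [Algebra A K] [Algebra A B] [CommRing A] [Algebra K L] [FiniteDimensional K L] [Field K] [Field L] in
/-- Distinct homomorphisms to a field have an invertible matrix of values. -/
theorem exists_det {n : ℕ} (ψ : Fin n → (B →+* Ω)) (hψ : Function.Injective ψ) :
    ∃ b : Fin n → B, (Matrix.of fun k j => ψ j (b k)).det ≠ 0 := by
  classical
  let v : B → (Fin n → Ω) := fun b j => ψ j b
  have hspan : Submodule.span Ω (Set.range v) = ⊤ := by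
    by_contra hne
    obtain ⟨f, hf0, hf⟩ := Submodule.exists_le_ker_of_lt_top _ (lt_top_iff_ne_top.2 hne)
    apply hf0
    have hlin : LinearIndependent Ω (fun j => ((ψ j : B →* Ω) : B → Ω)) :=
      (linearIndependent_monoidHom B Ω).comp (fun j => (ψ j : B →* Ω)) (fun j j' h => hψ (RingHom.ext
        fun b => DFunLike.congr_fun h b))
    have h1 : ∀ j, f (Pi.single j 1) = 0 := by
      refine Fintype.linearIndependent_iff.1 hlin (fun j => f (Pi.single j 1)) ?_
      funext b
      have h2 : f (v b) = 0 := hf (Submodule.subset_span ⟨b, rfl⟩)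
      rw [LinearMap.pi_apply_eq_sum_univ f (v b)] at h2
      rw [Finset.sum_apply, Pi.zero_apply, ← h2]
      refine Finset.sum_congr rfl fun j _ => ?_
      change f (Pi.single j 1) * ψ j b = ψ j b * f _
      rw [mul_comm]
      congr 2
      funext k
      rw [Pi.single_apply]
      simp only [eq_comm]
    refine LinearMap.pi_ext' fun j => LinearMap.ext_ring ?_
    simpa using h1 j
  obtain ⟨w, hw, hws, hwl⟩ := Submodule.exists_fun_fin_finrank_span_eq Ω (Set.range v)
  have hn : n = Module.finrank Ω (Submodule.span Ω (Set.range v)) := by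
    rw [hspan, finrank_top, Module.finrank_fin_fun]
  choose b hb using hw
  refine ⟨fun k => b (finCongr hn k), ?_⟩
  have h1 : LinearIndependent Ω (fun k => w (finCongr hn k)) :=
    hwl.comp _ (finCongr hn).injective
  have h2 : (fun k => w (finCongr hn k)) = (Matrix.of fun k j => ψ j (b (finCongr hn k))).row := by
    funext k
    rw [← hb]
    rfl
  rw [h2, Matrix.linearIndependent_rows_iff_isUnit, Matrix.isUnit_iff_isUnit_det] at h1
  exact h1.ne_zero

include hi hiA in
/-- Elements of `B` whose discriminant does not vanish at the given point. -/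
theorem exists_discr (ψ : Fin (Module.finrank K L) → (B →+* Ω)) (hψ : Function.Injective ψ)
    (hφ : ∀ j, (ψ j).comp (algebraMap A B) = φ) :
    ∃ (b : Fin (Module.finrank K L) → B) (d : A),
      algebraMap A K d = Algebra.discr K (fun k => i (b k)) ∧ φ d ≠ 0 := by
  classical
  obtain ⟨b, hb⟩ := exists_det ψ hψ
  have hint : ∀ x : B, ∃ t : A, algebraMap A K t = Algebra.trace K L (i x) := by
    intro x
    let _ : Algebra A L := ((algebraMap K L).comp (algebraMap A K)).toAlgebra
    have : IsScalarTower A K L := IsScalarTower.of_algebraMap_eq fun _ => rfl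
    have hx : IsIntegral A (i x) :=
      (Algebra.IsIntegral.isIntegral (R := A) x).map_of_comp_eq (RingHom.id A) i (by
        rw [hiA]; rfl)
    exact IsIntegrallyClosed.algebraMap_eq_of_integral (Algebra.isIntegral_trace hx)
  choose T hT using hint
  let M : Matrix (Fin (Module.finrank K L)) (Fin (Module.finrank K L)) A :=
    Matrix.of fun k l => T (b k * b l)
  refine ⟨b, M.det, ?_, ?_⟩
  · rw [Algebra.discr_def, RingHom.map_det]
    congr 1
    ext k l
    change algebraMap A K (T (b k * b l)) = _
    rw [hT, map_mul]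
    rfl
  · have h1 : φ.mapMatrix M = (Matrix.of fun k j => ψ j (b k)) *
        (Matrix.of fun k j => ψ j (b k)).transpose := by
      ext k l
      change φ (T (b k * b l)) = _
      rw [trace_eq_sum i hi hiA φ ψ hψ hφ (b k * b l) _ (hT _), Matrix.mul_apply]
      exact Finset.sum_congr rfl fun j _ => map_mul _ _ _
    rw [RingHom.map_det, h1, Matrix.det_mul, Matrix.det_transpose]
    exact mul_ne_zero hb hb

end

end K71.CharInt
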