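import Groth.Agent.S2195
import Groth.Agent.Pi1.H397.Unr
import Mathlib.RingTheory.DedekindDomain.IntegralClosure
import Mathlib.RingTheory.Localization.NormTrace

/-!
# Integral closures with unit discriminant

If the finite extension `L` of the fraction field `K` of a normal domain `A` has a family of `[L : K]`
elements integral over `A` whose discriminant is a unit of `A`, then the integral closure of `A` in `L`
is finite free and etale over `A`.
-/

set_option autoImplicit false
universe u v w

open Module

namespace K71.DiscEt

variable {A : Type u} {K : Type w} {L : Type v} [CommRing A] [IsDomain A] [IsIntegrallyClosed A]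
  [Field K] [Algebra A K] [IsFractionRing A K] [Field L] [Algebra K L] [Algebra A L]
  [IsScalarTower A K L] [FiniteDimensional K L]

theorem finite_etale (b : Fin (finrank K L) → L) (hb : ∀ k, IsIntegral A (b k)) (u : A)
    (hu : IsUnit u) (hdisc : algebraMap A K u = Algebra.discr K b) :
    Module.Finite A (integralClosure A L) ∧ Algebra.Etale A (integralClosure A L) := by
  classical
  have hu0 : algebraMap A K u ≠ 0 := by
    rw [Ne, FaithfulSMul.algebraMap_eq_zero_iff]
    exact hu.ne_zero
  have hli : LinearIndependent K b := by
    by_contra hc
    exact hu0 (hdisc.trans (Algebra.discr_zero_of_not_linearIndependent K hc))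
  have hne : Nonempty (Fin (finrank K L)) := ⟨⟨0, Module.finrank_pos⟩⟩
  let c : Basis (Fin (finrank K L)) K L :=
    basisOfLinearIndependentOfCardEqFinrank hli (by simp)
  have hc : ⇑c = b := coe_basisOfLinearIndependentOfCardEqFinrank hli _
  have hrep := fun x hx i => Groth.Agent.Pi1.H397.Unr.exists_repr (R := A) (L := K) (E := L) c
    (fun i => by rw [hc]; exact hb i) u hu (by rw [hc]; exact hdisc) x hx i
  let C := integralClosure A L
  let b' : Fin (finrank K L) → C := fun k => ⟨b k, hb k⟩
  have hli' : LinearIndependent A b' := by
    have h1 : LinearIndependent A b := hli.restrict_scalars (fun x y h => by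
      simpa [Algebra.smul_def] using h)
    exact LinearIndependent.of_comp C.val.toLinearMap h1
  have hsp : ⊤ ≤ Submodule.span A (Set.range b') := by
    rintro ⟨x, hx⟩ -
    choose r hr using hrep x hx
    have h1 : (⟨x, hx⟩ : C) = ∑ k, r k • b' k := by
      apply Subtype.ext
      change x = C.val (∑ k, r k • b' k)
      rw [map_sum]
      conv_lhs => rw [← c.sum_repr x]
      refine Finset.sum_congr rfl fun k _ => ?_
      rw [map_smul, ← hr k, algebraMap_smul, hc]
      rfl
    rw [h1]
    exact Submodule.sum_mem _ fun k _ => Submodule.smul_mem _ _ (Submodule.subset_span ⟨k, rfl⟩)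
  let bC : Basis (Fin (finrank K L)) A C := Basis.mk hli' hsp
  have hloc : IsLocalization (Algebra.algebraMapSubmonoid C (nonZeroDivisors A)) L :=
    IsIntegralClosure.isLocalization A K L C
  have hd : IsUnit (Algebra.discr A bC) := by
    have h1 := Algebra.discr_localizationLocalization A (nonZeroDivisors A) (Rₘ := K) L bC
    have h2 : (⇑(bC.localizationLocalization K (nonZeroDivisors A) L)) = b := by
      funext k
      rw [Basis.localizationLocalization_apply, Basis.mk_apply]
      rfl
    rw [h2, ← hdisc] at h1
    rw [← IsFractionRing.injective A K h1]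
    exact hu
  exact ⟨Module.Finite.of_basis bC, (Groth.Agent.S2195.result bC).2 hd⟩

end K71.DiscEt
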