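import Groth.Agent.Pi1.K71.CharInt
import Groth.Agent.Pi1.K71.DiscEt
import Groth.Agent.S0288

/-!
# Evaluation of sections at points with values in a ring; the normalization in a field
-/

set_option autoImplicit false
universe u

namespace K71.NormPt

open AlgebraicGeometry CategoryTheory CategoryTheory.Limits

/-- Evaluation of sections over `V` at a `Spec R`-valued point of `V`. -/
noncomputable def ev {R : CommRingCat.{u}} {Z : Scheme.{u}} (s : Spec R ⟶ Z) (V : Z.Opens)
    (h : ⊤ ≤ s ⁻¹ᵁ V) : Γ(Z, V) ⟶ R :=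
  s.appLE V ⊤ h ≫ (Scheme.ΓSpecIso R).hom

theorem ev_comp {R : CommRingCat.{u}} {Z Z' : Scheme.{u}} (s : Spec R ⟶ Z) (f : Z ⟶ Z') (V : Z'.Opens)
    (h : ⊤ ≤ s ⁻¹ᵁ (f ⁻¹ᵁ V)) : ev (s ≫ f) V h = f.app V ≫ ev s (f ⁻¹ᵁ V) h := by
  rw [ev, ev, Scheme.Hom.comp_appLE, Category.assoc]

theorem ev_congr {R : CommRingCat.{u}} {Z : Scheme.{u}} {s s' : Spec R ⟶ Z} (e : s = s')
    (V : Z.Opens) (h : ⊤ ≤ s ⁻¹ᵁ V) : ev s V h = ev s' V (e ▸ h) := by
  subst e; rfl

theorem SpecMap_ev {R : CommRingCat.{u}} {Z : Scheme.{u}} (s : Spec R ⟶ Z) {V : Z.Opens}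
    (hV : IsAffineOpen V) (h : ⊤ ≤ s ⁻¹ᵁ V) : Spec.map (ev s V h) ≫ hV.fromSpec = s := by
  rw [ev, Spec.map_comp, Category.assoc, hV.SpecMap_appLE_fromSpec s (isAffineOpen_top _) h,
    IsAffineOpen.fromSpec_top]
  simp

theorem ev_SpecMap {R R' : CommRingCat.{u}} {Z : Scheme.{u}} (φ : R ⟶ R') (s : Spec R ⟶ Z)
    (V : Z.Opens) (h : ⊤ ≤ s ⁻¹ᵁ V) :
    ev (Spec.map φ ≫ s) V (fun _ _ => h (TopologicalSpace.Opens.mem_top _)) = ev s V h ≫ φ := by
  rw [ev, ev, ← Scheme.Hom.appLE_comp_appLE (Spec.map φ) s V ⊤ ⊤ h le_rfl, Category.assoc,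
    Category.assoc]
  congr 1
  have : (Spec.map φ).appLE ⊤ ⊤ le_rfl = (Spec.map φ).appTop := by
    simp [Scheme.Hom.appLE]
  rw [this, Scheme.ΓSpecIso_naturality]

theorem ev_fromSpecStalk {Z : Scheme.{u}} (z : Z) (V : Z.Opens) (hz : z ∈ V)
    (h : ⊤ ≤ (Z.fromSpecStalk z) ⁻¹ᵁ V) :
    ev (Z.fromSpecStalk z) V h = Z.presheaf.germ V z hz := by
  rw [ev, Scheme.Hom.appLE, Scheme.fromSpecStalk_app hz]
  simp only [Category.assoc]
  rw [← Functor.map_comp_assoc]
  have : ∀ (i : (Opposite.op ⊤ : (Spec (Z.presheaf.stalk z)).Opensᵒᵖ) ⟶ Opposite.op ⊤),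
      (Spec (Z.presheaf.stalk z)).presheaf.map i = 𝟙 _ := fun i => by
    rw [Subsingleton.elim i (𝟙 _), CategoryTheory.Functor.map_id]
  erw [this]
  simp

theorem isIso_ev_id {R : CommRingCat.{u}} (V : (Spec R).Opens) (h : ⊤ ≤ (𝟙 (Spec R) : Spec R ⟶ Spec R) ⁻¹ᵁ V) :
    IsIso (ev (𝟙 (Spec R)) V h) := by
  have hV : V = ⊤ := top_le_iff.1 h
  subst hV
  rw [ev]
  have : (𝟙 (Spec R) : Spec R ⟶ Spec R).appLE ⊤ ⊤ h = 𝟙 _ := by
    simp [Scheme.Hom.appLE]
  rw [this, Category.id_comp]
  infer_instance

section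

variable {X : Scheme.{u}} [IsIntegral X] (L : Type u) [Field L] [Algebra X.functionField L]

/-- The morphism from the spectrum of an extension of the function field. -/
noncomputable abbrev gen : Spec (CommRingCat.of L) ⟶ X :=
  Spec.map (CommRingCat.ofHom (algebraMap X.functionField L)) ≫ X.fromSpecStalk (genericPoint X)

theorem gen_apply (z : Spec (CommRingCat.of L)) : gen (X := X) L z = genericPoint X := by
  have h1 : Spec.map (CommRingCat.ofHom (algebraMap X.functionField L)) z =
      IsLocalRing.closedPoint X.functionField := by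
    let _ : Unique (PrimeSpectrum X.functionField) := PrimeSpectrum.instUnique
    exact Subsingleton.elim (α := PrimeSpectrum X.functionField) _ _
  rw [gen, Scheme.Hom.comp_apply, h1]
  exact X.fromSpecStalk_closedPoint

theorem genericPoint_mem (W : X.Opens) [Nonempty W] : genericPoint X ∈ W :=
  ((genericPoint_spec X).mem_open_set_iff W.isOpen).mpr (by simpa using ‹Nonempty W›)

theorem top_le_gen (W : X.Opens) [Nonempty W] : ⊤ ≤ gen (X := X) L ⁻¹ᵁ W := by
  intro z _
  change gen (X := X) L z ∈ W
  rw [gen_apply]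
  exact genericPoint_mem W

theorem ev_gen (W : X.Opens) [Nonempty W] :
    ev (gen (X := X) L) W (top_le_gen L W) =
      CommRingCat.ofHom ((algebraMap X.functionField L).comp (algebraMap Γ(X, W) X.functionField)) := by
  have h0 : ⊤ ≤ (X.fromSpecStalk (genericPoint X)) ⁻¹ᵁ W := by
    intro z _
    change (X.fromSpecStalk (genericPoint X)) z ∈ W
    have : z = IsLocalRing.closedPoint X.functionField := by
      let _ : Unique (PrimeSpectrum X.functionField) := PrimeSpectrum.instUnique
      exact Subsingleton.elim (α := PrimeSpectrum X.functionField) _ _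
    rw [this]
    erw [X.fromSpecStalk_closedPoint]
    exact genericPoint_mem W
  have h1 := ev_SpecMap (CommRingCat.ofHom (algebraMap X.functionField L))
    (X.fromSpecStalk (genericPoint X)) W h0
  have h2 := ev_fromSpecStalk (genericPoint X) W (genericPoint_mem W) h0
  rw [h2] at h1
  exact h1

variable [QuasiCompact (gen (X := X) L)] [QuasiSeparated (gen (X := X) L)]

/-- Sections of the normalization as elements of the field `L`. -/
noncomputable def toL (W : X.Opens) [Nonempty W] :
    Γ((gen (X := X) L).normalization, (gen (X := X) L).fromNormalization ⁻¹ᵁ W) ⟶ CommRingCat.of L :=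
  ev (gen (X := X) L).toNormalization _ (by
    rw [← Scheme.Hom.comp_preimage, Scheme.Hom.toNormalization_fromNormalization]
    exact top_le_gen L W)

theorem app_toL (W : X.Opens) [Nonempty W] : (gen (X := X) L).fromNormalization.app W ≫ toL L W =
    CommRingCat.ofHom ((algebraMap X.functionField L).comp (algebraMap Γ(X, W) X.functionField)) := by
  rw [toL, ← ev_comp, ← ev_gen L W]
  exact ev_congr (gen (X := X) L).toNormalization_fromNormalization W _

omit [QuasiCompact (gen (X := X) L)] [QuasiSeparated (gen (X := X) L)] in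
/-- The isomorphism between the sections of `Spec L` over the preimage of an open subset and `L`. -/
theorem isIso_toField (W : X.Opens) [Nonempty W] :
    IsIso (ev (𝟙 (Spec (CommRingCat.of L))) (gen (X := X) L ⁻¹ᵁ W) (top_le_gen L W)) :=
  isIso_ev_id _ _

omit [QuasiCompact (gen (X := X) L)] [QuasiSeparated (gen (X := X) L)] in
theorem app_toField (W : X.Opens) [Nonempty W] : (gen (X := X) L).app W ≫
    ev (𝟙 (Spec (CommRingCat.of L))) (gen (X := X) L ⁻¹ᵁ W) (top_le_gen L W) =
    CommRingCat.ofHom ((algebraMap X.functionField L).comp (algebraMap Γ(X, W) X.functionField)) := by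
  rw [← ev_gen L W, ← ev_comp]
  exact ev_congr (Category.id_comp _) W _

theorem toL_eq (W : X.Opens) (hW : IsAffineOpen W) [Nonempty W] :
    letI := ((gen (X := X) L).app W).hom.toAlgebra
    toL L W = ((gen (X := X) L).normalizationObjIso hW).hom ≫
      CommRingCat.ofHom (integralClosure Γ(X, W)
        Γ(Spec (CommRingCat.of L), gen (X := X) L ⁻¹ᵁ W)).val.toRingHom ≫
      ev (𝟙 (Spec (CommRingCat.of L))) (gen (X := X) L ⁻¹ᵁ W) (top_le_gen L W) := by
  let := ((gen (X := X) L).app W).hom.toAlgebra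
  have h := (gen (X := X) L).normalizationObjIso_hom_val hW
  rw [← Category.assoc]
  erw [h]
  rw [toL, ev, ev, ← Category.assoc, Scheme.Hom.appLE_comp_appLE]
  congr 1

theorem toL_injective (W : X.Opens) (hW : IsAffineOpen W) [Nonempty W] :
    Function.Injective (toL L W) := by
  let := ((gen (X := X) L).app W).hom.toAlgebra
  have := isIso_toField (X := X) L W
  rw [toL_eq L W hW]
  intro a b hab
  have h1 := (ConcreteCategory.bijective_of_isIso
    (ev (𝟙 (Spec (CommRingCat.of L))) (gen (X := X) L ⁻¹ᵁ W) (top_le_gen L W))).1 hab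
  have h2 := Subtype.val_injective h1
  exact (ConcreteCategory.bijective_of_isIso ((gen (X := X) L).normalizationObjIso hW).hom).1 h2

/-- The normalization is finite etale over an affine open over which there is a family of integral
elements with unit discriminant. -/
theorem finite_etale_app (hX : Pi1.IsNormalScheme X) [FiniteDimensional X.functionField L]
    (W : X.Opens) (hW : IsAffineOpen W) [Nonempty W]
    (b : Fin (Module.finrank X.functionField L) → L)
    (hb : ∀ k, ((algebraMap X.functionField L).comp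
      (algebraMap Γ(X, W) X.functionField)).IsIntegralElem (b k))
    (u : Γ(X, W)) (hu : IsUnit u)
    (hd : algebraMap Γ(X, W) X.functionField u = Algebra.discr X.functionField b) :
    ((gen (X := X) L).fromNormalization.app W).hom.Finite ∧
      ((gen (X := X) L).fromNormalization.app W).hom.Etale := by
  have := Groth.Agent.S0288.isIntegrallyClosed_section hX hW
  have := functionField_isFractionRing_of_isAffineOpen X W hW
  let alg1 := ((gen (X := X) L).app W).hom.toAlgebra
  let alg2 : Algebra Γ(X, W) L :=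
    ((algebraMap X.functionField L).comp (algebraMap Γ(X, W) X.functionField)).toAlgebra
  have : IsScalarTower Γ(X, W) X.functionField L := IsScalarTower.of_algebraMap_eq fun _ => rfl
  have h1 := K71.DiscEt.finite_etale (A := Γ(X, W)) (K := X.functionField) (L := L) b hb u hu hd
  have := isIso_toField (X := X) L W
  let E : Γ(Spec (CommRingCat.of L), gen (X := X) L ⁻¹ᵁ W) ≃ₐ[Γ(X, W)] L :=
    { (asIso (ev (𝟙 (Spec (CommRingCat.of L))) (gen (X := X) L ⁻¹ᵁ W)
        (top_le_gen L W))).commRingCatIsoToRingEquiv with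
      commutes' := fun r => congr($(app_toField L W) r) }
  let E' := E.mapIntegralClosure
  have hfin : Module.Finite Γ(X, W) (integralClosure Γ(X, W)
      Γ(Spec (CommRingCat.of L), gen (X := X) L ⁻¹ᵁ W)) := by
    have := h1.1
    exact Module.Finite.equiv E'.symm.toLinearEquiv
  have het : Algebra.Etale Γ(X, W) (integralClosure Γ(X, W)
      Γ(Spec (CommRingCat.of L), gen (X := X) L ⁻¹ᵁ W)) := by
    have := h1.2
    exact Algebra.Etale.of_equiv E'.symm
  rw [(gen (X := X) L).fromNormalization_app hW, CommRingCat.hom_comp]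
  constructor
  · rw [RingHom.finite_respectsIso.cancel_right_isIso, CommRingCat.hom_ofHom, RingHom.finite_algebraMap]
    exact hfin
  · rw [RingHom.Etale.respectsIso.cancel_right_isIso, CommRingCat.hom_ofHom, RingHom.etale_algebraMap]
    exact het

end

/-- An affine morphism is etale over an affine open if it is so on sections. -/
theorem etale_restrict {X Y : Scheme.{u}} (f : Y ⟶ X) [IsAffineHom f] (W : X.Opens)
    (hW : IsAffineOpen W) (h : (f.app W).hom.Etale) : Etale (f ∣_ W) := by
  have : IsAffine W := hW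
  have : IsAffine (f ⁻¹ᵁ W) := hW.preimage f
  rw [HasRingHomProperty.iff_of_isAffine (P := @Etale), morphismRestrict_appTop]
  have h1 : ∀ V : X.Opens, V = W → (f.app V).hom.Etale := by
    rintro V rfl
    exact h
  have h2 := h1 (W.ι ''ᵁ ⊤) (by simp)
  have h3 := (RingHom.Etale.respectsIso.cancel_right_isIso (f.app (W.ι ''ᵁ ⊤))
    (Y.presheaf.map (eqToHom (image_morphismRestrict_preimage f W ⊤)).op)).2 h2
  exact h3

end K71.NormPt
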